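import Mathlib

/-!
Linear maps of finite spaces commuting with an element of primitive prime order.
-/

set_option autoImplicit false

namespace Cfsg.Agent.SpecBC

open Module

variable {F W : Type*} [Field F] [Finite F] [AddCommGroup W] [Module F W] [FiniteDimensional F W]

omit [FiniteDimensional F W] in
theorem dvd_of_primitive {r m d : ℕ} (hm : 0 < m) (hprim : ∀ k, 0 < k → k < m → ¬ r ∣ Nat.card F ^ k - 1)
    (hr : r ∣ Nat.card F ^ m - 1) (hd : r ∣ Nat.card F ^ d - 1) : m ∣ d := by
  have h := Nat.dvd_gcd hd hr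
  rw [Nat.pow_sub_one_gcd_pow_sub_one] at h
  rcases (Nat.le_of_dvd hm (Nat.gcd_dvd_right d m)).lt_or_eq with hlt | heq
  · exact absurd h (hprim _ (Nat.gcd_pos_of_pos_right d hm) hlt)
  · exact heq ▸ Nat.gcd_dvd_left d m

/-- A subspace moved freely by an element of primitive prime order has dimension divisible by the degree. -/
theorem dvd_finrank {r m : ℕ} [hr : Fact r.Prime] (hm : 0 < m)
    (hprim : ∀ k, 0 < k → k < m → ¬ r ∣ Nat.card F ^ k - 1) (hrd : r ∣ Nat.card F ^ m - 1)
    (T : W →ₗ[F] W) (hT : T ^ r = 1) (P : Submodule F W) (hP : ∀ x ∈ P, T x ∈ P)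
    (hfree : ∀ x ∈ P, T x = x → x = 0) : m ∣ finrank F P := by
  classical
  haveI : Finite W := Module.finite_of_finite F
  haveI : Fintype P := Fintype.ofFinite _
  let f : Function.End P := fun x => ⟨T x.1, hP _ x.2⟩
  have hit : ∀ (j : ℕ) (x : P), (((f ^ j : Function.End P) x : P) : W) = (T ^ j) x.1 := by
    intro j
    induction j with
    | zero => intro x; rfl
    | succ j ih =>
      intro x
      rw [pow_succ', pow_succ']
      show T ((f ^ j : Function.End P) x).1 = T ((T ^ j) x.1)
      rw [ih]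
  have hf : f ^ r ^ 1 = 1 := funext fun x => Subtype.ext (by rw [pow_one, hit, hT]; rfl)
  have h := Equiv.Perm.card_fixedPoints_modEq (f := f) hf
  have hfix : Fintype.card (Function.fixedPoints f) = 1 := by
    refine Fintype.card_eq_one_iff.2 ⟨⟨0, Subtype.ext (map_zero T)⟩, fun x => Subtype.ext (Subtype.ext ?_)⟩
    exact hfree _ x.1.2 (congrArg Subtype.val x.2)
  rw [hfix] at h
  have hd : r ∣ Nat.card F ^ finrank F P - 1 := by
    rw [← Module.natCard_eq_pow_finrank, Nat.card_eq_fintype_card]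
    exact (Nat.modEq_iff_dvd' Fintype.card_pos).1 h.symm
  exact dvd_of_primitive hm hprim hrd hd

/-- Maps commuting with an irreducible map of primitive prime order: the kill lemma. -/
theorem eq_zero_of_apply_eq_zero {r m : ℕ} [hr : Fact r.Prime]
    (hprim : ∀ k, 0 < k → k < m → ¬ r ∣ Nat.card F ^ k - 1) (hrd : r ∣ Nat.card F ^ m - 1)
    (T : W →ₗ[F] W) (hT : T ^ r = 1) (hfree : ∀ x, T x = x → x = 0) (hm : 0 < m) (hdim : finrank F W = m)
    {f : W →ₗ[F] W} (hf : f * T = T * f) {w : W} (hw : w ≠ 0) (hfw : f w = 0) : f = 0 := by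
  have hinv : ∀ x ∈ LinearMap.ker f, T x ∈ LinearMap.ker f := fun x hx => by
    rw [LinearMap.mem_ker] at hx ⊢
    rw [← Module.End.mul_apply, hf, Module.End.mul_apply, hx, map_zero]
  have hd := dvd_finrank hm hprim hrd T hT (LinearMap.ker f) hinv fun x _ => hfree x
  have hpos : 0 < finrank F (LinearMap.ker f) :=
    Module.finrank_pos_iff.2 ⟨⟨w, LinearMap.mem_ker.2 hfw⟩, 0, fun h => hw (congrArg Subtype.val h)⟩
  have h1 := Submodule.finrank_le (LinearMap.ker f)
  have h2 : finrank F (LinearMap.ker f) = finrank F W := by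
    rw [hdim] at h1 ⊢
    exact le_antisymm h1 (Nat.le_of_dvd hpos hd)
  have h3 := Submodule.eq_top_of_finrank_eq h2
  exact LinearMap.ker_eq_top.1 h3

/-- The determinant of an element of small order in the centraliser of an irreducible map. -/
theorem det_eq_one_of_commute {r m L : ℕ} [hr : Fact r.Prime]
    (hprim : ∀ k, 0 < k → k < m → ¬ r ∣ Nat.card F ^ k - 1) (hrd : r ∣ Nat.card F ^ m - 1)
    (T : W →ₗ[F] W) (hT : T ^ r = 1) (hfree : ∀ x, T x = x → x = 0) (hm : 0 < m) (hdim : finrank F W = m)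
    {f : W →ₗ[F] W} (hf : f * T = T * f) (hfL : f ^ L = 1) {M : ℕ} (hM : L * M = Nat.card F ^ m - 1)
    (hMq : Nat.card F - 1 ∣ M) : LinearMap.det f = 1 := by
  classical
  haveI : Finite W := Module.finite_of_finite F
  haveI : Finite (Module.End F W) := Finite.of_injective _ DFunLike.coe_injective
  let E := Subalgebra.centralizer F ({T} : Set (Module.End F W))
  have hmem : ∀ g : Module.End F W, g ∈ E ↔ T * g = g * T := fun g => by
    simp [E, Subalgebra.mem_centralizer_iff]
  haveI : Nontrivial W := Module.nontrivial_of_finrank_pos (R := F) (by omega)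
  obtain ⟨w, hw⟩ := exists_ne (0 : W)
  have kill : ∀ g : E, g.1 w = 0 → g = 0 := fun g hg => Subtype.ext
    (eq_zero_of_apply_eq_zero hprim hrd T hT hfree hm hdim ((hmem _).1 g.2).symm hw hg)
  haveI : NoZeroDivisors E := ⟨fun {a b} hab => by
    by_contra hc
    push Not at hc
    have hb : b.1 w ≠ 0 := fun h => hc.2 (kill b h)
    exact hc.1 (Subtype.ext (eq_zero_of_apply_eq_zero hprim hrd T hT hfree hm hdim ((hmem _).1 a.2).symm hb
      (congrArg (fun g : E => g.1 w) hab)))⟩
  haveI : Nontrivial E := ⟨⟨0, 1, fun h => hw (by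
    simpa using (congrArg (fun g : E => g.1 w) h).symm)⟩⟩
  haveI : IsDomain E := NoZeroDivisors.to_isDomain E
  have hfield := Finite.isDomain_to_isField E
  letI : CommRing E := { (inferInstance : Ring E) with mul_comm := hfield.mul_comm }
  haveI : IsDomain E := NoZeroDivisors.to_isDomain E
  let ev : E →ₗ[F] W := { toFun := fun g => g.1 w, map_add' := fun g h => rfl, map_smul' := fun c g => rfl }
  have hev : Function.Injective ev := fun g h hgh => sub_eq_zero.1 (kill _ (by
    show (g.1 - h.1) w = 0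
    rw [LinearMap.sub_apply, sub_eq_zero]
    exact hgh))
  have hevs : Function.Surjective ev := by
    rw [← LinearMap.range_eq_top]
    refine Submodule.eq_top_of_finrank_eq ?_
    rw [hdim]
    have hd := dvd_finrank hm hprim hrd T hT (LinearMap.range ev)
      (fun x hx => by
        obtain ⟨g, rfl⟩ := hx
        exact ⟨(⟨T, (hmem T).2 rfl⟩ : E) * g, rfl⟩) fun x _ => hfree x
    have hpos : 0 < finrank F (LinearMap.range ev) :=
      Module.finrank_pos_iff.2 ⟨⟨ev 1, LinearMap.mem_range_self _ _⟩, 0, fun h => hw (congrArg Subtype.val h)⟩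
    have h1 := Submodule.finrank_le (LinearMap.range ev)
    rw [hdim] at h1
    exact le_antisymm h1 (Nat.le_of_dvd hpos hd)
  have hcard : Nat.card Eˣ = Nat.card F ^ m - 1 := by
    haveI := Fintype.ofFinite E
    rw [Nat.card_eq_fintype_card]
    have h1 : Nat.card E = Nat.card F ^ m := by
      rw [Nat.card_congr (Equiv.ofBijective ev ⟨hev, hevs⟩), Module.natCard_eq_pow_finrank (K := F), hdim]
    letI : Field E := hfield.toField
    rw [Fintype.card_units, ← Nat.card_eq_fintype_card, h1]
  let e : E := ⟨f, (hmem f).2 hf.symm⟩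
  have heL : e ^ L = 1 := Subtype.ext (by rw [SubmonoidClass.coe_pow]; exact hfL)
  have hL : L ≠ 0 := by
    rintro rfl
    have := Nat.one_lt_pow hm.ne' (Finite.one_lt_card (α := F))
    omega
  obtain ⟨u, hu⟩ := IsUnit.of_pow_eq_one heL hL
  obtain ⟨c, hc⟩ := IsCyclic.exists_generator (α := Eˣ)
  obtain ⟨j, hj⟩ := Subgroup.mem_zpowers_iff.1 (hc u)
  have hord : orderOf c = L * M := by rw [hM, ← hcard, orderOf_eq_card_of_forall_mem_zpowers hc]
  have huL : u ^ L = 1 := Units.ext (by rw [Units.val_pow_eq_pow_val, hu, heL, Units.val_one])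
  have hdvd : (M : ℤ) ∣ j := by
    rw [← hj, ← zpow_natCast, ← zpow_mul, ← orderOf_dvd_iff_zpow_eq_one, hord, Nat.cast_mul, mul_comm j] at huL
    exact (mul_dvd_mul_iff_left (Int.natCast_ne_zero.2 hL)).1 huL
  obtain ⟨i, hi⟩ := hdvd
  let dt : Eˣ →* Fˣ := (Units.map ((LinearMap.det : Module.End F W →* F).comp E.val.toMonoidHom))
  have h1 : dt u = 1 := by
    rw [← hj, hi, zpow_mul, zpow_natCast, map_zpow, map_pow]
    obtain ⟨k, hk⟩ := hMq
    have hcq : dt c ^ (Nat.card F - 1) = 1 := by
      rw [← Nat.card_units, pow_card_eq_one']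
    rw [hk, pow_mul, hcq, one_pow, one_zpow]
  have h2 := congrArg Units.val h1
  simp only [dt, Units.coe_map, MonoidHom.coe_comp, Function.comp_apply, Units.val_one] at h2
  rw [hu] at h2
  exact h2

end Cfsg.Agent.SpecBC
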