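import Cfsg.Agent.SpecBC.Count
import Cfsg.Agent.SpecBC.Linear
import Cfsg.Agent.Classical.OrthSpinor
import Cfsg.Agent.LocalStructure.Zsigmondy

/-!
In odd characteristic `Ω_{2n+1}(q)` has no element of order `p (q^(n-1) + 1)`.
-/

set_option autoImplicit false

namespace Cfsg.Agent.SpecBC

open Module QuadraticMap Cfsg.Agent.Classical.Quad

variable {F V : Type*} [Field F] [AddCommGroup V] [Module F V]

/-- An isometry as a linear map. -/
def toEnd (Q : QuadraticForm F V) : oG Q →* Module.End F V where
  toFun g := (g.1 : V →ₗ[F] V)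
  map_one' := rfl
  map_mul' _ _ := rfl

theorem toEnd_injective (Q : QuadraticForm F V) : Function.Injective (toEnd Q) := fun _ _ h =>
  Subtype.ext (LinearEquiv.toLinearMap_injective h)

theorem toEnd_isometry {Q : QuadraticForm F V} (g : oG Q) (x : V) : Q (toEnd Q g x) = Q x := g.2 x

theorem toEnd_polar {Q : QuadraticForm F V} (g : oG Q) (x y : V) :
    polar Q (toEnd Q g x) (toEnd Q g y) = polar Q x y := by
  simp only [polar, ← map_add, toEnd_isometry]

theorem restrict_pow {P : Submodule F V} {f : Module.End F V} (h : ∀ x ∈ P, f x ∈ P) (j : ℕ) (x : P) :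
    (((f.restrict h) ^ j) x : V) = (f ^ j) x := by
  induction j generalizing x with
  | zero => rfl
  | succ j ih => rw [pow_succ, pow_succ, Module.End.mul_apply, Module.End.mul_apply, ih]; rfl

variable [Finite F] [FiniteDimensional F V] [Finite V]

open scoped _root_.Classical in
theorem no_element (p : ℕ) [Fact p.Prime] [CharP F p] (hp : p ≠ 2) {n : ℕ} (hn : 3 ≤ n) {Q : QuadraticForm F V}
    (hQ : (polarBilin Q).Nondegenerate) (hV : finrank F V = 2 * n + 1)
    (hcard : vcard Q (1 : F) = Nat.card F ^ (2 * n) + Nat.card F ^ n) (g : oG Q)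
    (hdet : LinearMap.det (toEnd Q g) = 1) (hspin : spin Q g = 1) :
    orderOf g ≠ p * (Nat.card F ^ (n - 1) + 1) := by
  intro hord
  set q := Nat.card F with hq
  have hq1 : 1 < q := Finite.one_lt_card
  have hpp : p.Prime := Fact.out
  haveI := Fintype.ofFinite F
  obtain ⟨e, -, hcard'⟩ := FiniteField.card F p
  have hqpe : q = p ^ (e : ℕ) := by rw [hq, Nat.card_eq_fintype_card, hcard']
  have h2 : (2 : F) ≠ 0 := by
    intro h
    have : ((2 : ℕ) : F) = 0 := by exact_mod_cast h
    exact hp ((Nat.prime_dvd_prime_iff_eq hpp Nat.prime_two).1 ((CharP.cast_eq_zero_iff F p 2).1 this))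
  have hqodd : Odd q := hqpe ▸ (hpp.odd_of_ne_two hp).pow
  set m := 2 * (n - 1) with hm
  obtain ⟨r, hr, hrd, hrp⟩ := LocalStructure.zsigmondy (a := q) (n := m) hq1 (by omega)
    (fun h => by rw [h.1] at hqodd; exact absurd hqodd (by decide)) (by omega)
  haveI := Fact.mk hr
  set L := q ^ (n - 1) + 1 with hL
  have hsq : q ^ m - 1 = L * (q ^ (n - 1) - 1) := by
    rw [hm, mul_comm 2, pow_mul, hL]
    simpa using Nat.sq_sub_sq (q ^ (n - 1)) 1
  have hrL : r ∣ L := ((Nat.Prime.dvd_mul hr).1 (hsq ▸ hrd)).resolve_right (hrp (n - 1) (by omega) (by omega))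
  have hpq : p ∣ q := hqpe ▸ dvd_pow_self p e.ne_zero
  have hpL : ¬ p ∣ L := fun h => by
    have := (Nat.dvd_add_right (dvd_pow hpq (show n - 1 ≠ 0 by omega))).1 h
    exact hpp.one_lt.ne' (Nat.dvd_one.1 this)
  have hcop : Nat.Coprime p L := (Nat.Prime.coprime_iff_not_dvd hpp).2 hpL
  have hr0 : (r : F) ≠ 0 := fun h => by
    have := (Nat.prime_dvd_prime_iff_eq hpp hr).1 ((CharP.cast_eq_zero_iff F p r).1 h)
    exact hpL (this ▸ hrL)
  have hLbig : 2 * q < L := by
    have : q ^ 2 ≤ q ^ (n - 1) := Nat.pow_le_pow_right (by omega) (by omega)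
    nlinarith
  set s := g ^ p with hs
  set u := g ^ L with hu
  have hos : orderOf s = L := by
    rw [hs, orderOf_pow' g hpp.ne_zero, hord, Nat.gcd_mul_right_left, Nat.mul_div_cancel_left _ hpp.pos]
  have hu1 : u ≠ 1 := fun h => by
    have := Nat.le_of_dvd (by omega) (orderOf_dvd_of_pow_eq_one h)
    rw [hord] at this
    have := hpp.two_le
    nlinarith
  set S := toEnd Q s with hS
  set N := toEnd Q u - 1 with hN
  set Z := toEnd Q (s ^ (L / r)) with hZ
  have hgL : g ^ (p * L) = 1 := by rw [← hord, pow_orderOf_eq_one]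
  have hSL : S ^ L = 1 := by rw [hS, ← map_pow, hs, ← pow_mul, hgL, map_one]
  have hZr : Z ^ r = 1 := by
    rw [hZ, ← map_pow, ← pow_mul, Nat.div_mul_cancel hrL, ← hos, pow_orderOf_eq_one, map_one]
  have hZ1 : Z ≠ 1 := by
    intro h
    rw [hZ, ← map_one (toEnd Q)] at h
    have := Nat.le_of_dvd (Nat.div_pos (Nat.le_of_dvd (by omega) hrL) hr.pos)
      (orderOf_dvd_of_pow_eq_one (toEnd_injective Q h))
    rw [hos] at this
    have := Nat.div_lt_self (show 0 < L by omega) hr.one_lt
    omega
  have hcSZ : S * Z = Z * S := by rw [hS, hZ, ← map_mul, ← map_mul, (Commute.self_pow s (L / r)).eq]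
  have hcNZ : N * Z = Z * N := by
    have h : toEnd Q u * Z = Z * toEnd Q u := by
      rw [hZ, ← map_mul, ← map_mul]
      exact congrArg _ ((Commute.pow_pow_self g L p).pow_right (L / r)).eq
    rw [hN, sub_mul, mul_sub, one_mul, mul_one, h]
  have hcSN : S * N = N * S := by
    have h : S * toEnd Q u = toEnd Q u * S := by
      rw [hS, ← map_mul, ← map_mul]
      exact congrArg _ (Commute.pow_pow_self g p L).eq
    rw [hN, sub_mul, mul_sub, one_mul, mul_one, h]
  haveI : Nontrivial V := Module.nontrivial_of_finrank_pos (R := F) (by omega)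
  haveI : CharP (Module.End F V) p :=
    charP_of_injective_algebraMap (algebraMap F (Module.End F V)).injective p
  have hNp : N ^ p = 0 := by
    rw [hN, sub_pow_char_of_commute p (Commute.one_right _), one_pow, ← map_pow, hu, ← pow_mul, mul_comm, hgL,
      map_one, sub_self]
  -- the two pieces
  set W := LinearMap.range (Z - 1) with hW
  set R := LinearMap.ker (Z - 1) with hR
  have hmemR : ∀ x, x ∈ R ↔ Z x = x := fun x => by
    rw [hR, LinearMap.mem_ker, LinearMap.sub_apply, sub_eq_zero, Module.End.one_apply]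
  have hdisj : Disjoint W R := Submodule.disjoint_def.2 fun x hxW hxR => by
    obtain ⟨y, rfl⟩ := LinearMap.mem_range.1 hxW
    set x := (Z - 1) y with hx
    have h0 : (∑ i ∈ Finset.range r, Z ^ i) x = 0 := by
      rw [hx, ← Module.End.mul_apply, geom_sum_mul, hZr, sub_self, LinearMap.zero_apply]
    have hfix : ∀ i : ℕ, (Z ^ i) x = x := by
      intro i
      induction i with
      | zero => rfl
      | succ i ih => rw [pow_succ', Module.End.mul_apply, ih, (hmemR x).1 hxR]
    rw [LinearMap.sum_apply, Finset.sum_congr rfl (fun i _ => hfix i), Finset.sum_const, Finset.card_range,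
      ← Nat.cast_smul_eq_nsmul F] at h0
    exact (smul_eq_zero.1 h0).resolve_left hr0
  have hcompl : IsCompl W R := ⟨hdisj, codisjoint_iff.2 (Submodule.eq_top_of_disjoint _ _
    (by rw [hW, hR, LinearMap.finrank_range_add_finrank_ker]) hdisj)⟩
  have hinvW : ∀ f : Module.End F V, f * Z = Z * f → ∀ x ∈ W, f x ∈ W := by
    rintro f hf _ ⟨y, rfl⟩
    refine ⟨f y, ?_⟩
    rw [← Module.End.mul_apply, ← Module.End.mul_apply, sub_mul, mul_sub, hf, one_mul, mul_one]
  have hinvR : ∀ f : Module.End F V, f * Z = Z * f → ∀ x ∈ R, f x ∈ R := fun f hf x hx => by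
    rw [hmemR] at hx ⊢
    rw [← Module.End.mul_apply, ← hf, Module.End.mul_apply, hx]
  set T := Z.restrict (hinvW Z rfl) with hTdef
  have hfree : ∀ x : W, T x = x → x = 0 := fun x hx => Subtype.ext
    (Submodule.disjoint_def.1 hdisj _ x.2 ((hmemR _).2 (congrArg Subtype.val hx)))
  have hTr : T ^ r = 1 := LinearMap.ext fun x => Subtype.ext (by
    rw [hTdef, restrict_pow, hZr]; rfl)
  have hmpos : 0 < m := by omega
  have hdW : finrank F W = m := by
    have hd : m ∣ finrank F W := by
      have := dvd_finrank hmpos hrp hrd T hTr ⊤ (fun x _ => Submodule.mem_top) (fun x _ => hfree x)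
      rwa [finrank_top] at this
    have hpos : 0 < finrank F W := by
      rw [Module.finrank_pos_iff, Submodule.nontrivial_iff_ne_bot, hW, Ne, LinearMap.range_eq_bot, sub_eq_zero]
      exact hZ1
    have hle := Submodule.finrank_le W
    rw [hV] at hle
    obtain ⟨c, hc⟩ := hd
    rcases c with _ | _ | c
    · rw [mul_zero] at hc; omega
    · simpa using hc
    · rw [hc] at hle
      have : 2 * m ≤ m * (c + 1 + 1) := by nlinarith
      omega
  have hdR : finrank F R = 3 := by
    have h1 := Submodule.finrank_add_eq_of_isCompl hcompl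
    omega
  have hkill : ∀ {f : Module.End F V}, f * Z = Z * f → ∀ w ∈ W, w ≠ 0 → f w = 0 → ∀ x ∈ W, f x = 0 := by
    intro f hf w hwW hw0 hfw x hx
    have hcomm : f.restrict (hinvW f hf) * T = T * f.restrict (hinvW f hf) :=
      LinearMap.ext fun y => Subtype.ext (LinearMap.congr_fun hf y.1)
    have h0 := eq_zero_of_apply_eq_zero hrp hrd T hTr hfree hmpos hdW hcomm
      (w := ⟨w, hwW⟩) (fun h => hw0 (congrArg Subtype.val h)) (Subtype.ext hfw)
    exact congrArg Subtype.val (LinearMap.congr_fun h0 ⟨x, hx⟩)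
  -- `u` is trivial on `W`
  have hNW : ∀ x ∈ W, N x = 0 := by
    obtain ⟨w, hwW, hw0, hw⟩ : ∃ w ∈ W, w ≠ 0 ∧ N w = 0 := by
      by_contra hc
      push Not at hc
      have hinj : ∀ (i : ℕ) (w : V), w ∈ W → w ≠ 0 → (N ^ i) w ≠ 0 ∧ (N ^ i) w ∈ W := by
        intro i
        induction i with
        | zero => exact fun w hw h0 => ⟨h0, hw⟩
        | succ i ih =>
          intro w hw h0
          rw [pow_succ', Module.End.mul_apply]
          exact ⟨hc _ (ih w hw h0).2 (ih w hw h0).1, hinvW N hcNZ _ (ih w hw h0).2⟩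
      obtain ⟨w, hw, hw0⟩ := Submodule.exists_mem_ne_zero_of_ne_bot (p := W) fun hb => by
        rw [hb, finrank_bot] at hdW; omega
      exact (hinj p w hw hw0).1 (by rw [hNp]; rfl)
    exact hkill hcNZ w hwW hw0 hw
  -- orthogonality
  have horth : ∀ w ∈ W, ∀ x ∈ R, polar Q w x = 0 := by
    rintro _ ⟨y, rfl⟩ x hx
    rw [LinearMap.sub_apply, Module.End.one_apply, sub_eq_add_neg, polar_add_left, polar_neg_left]
    conv_lhs => arg 1; rw [← (hmemR x).1 hx]
    rw [hZ, toEnd_polar, add_neg_cancel]
  have hsplit : ∀ x : V, ∃ w ∈ W, ∃ z ∈ R, w + z = x := fun x =>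
    Submodule.mem_sup.1 (hcompl.sup_eq_top ▸ Submodule.mem_top)
  have hQR : (polarBilin (Q.comp R.subtype)).Nondegenerate := nondeg_of fun x hx => Subtype.ext <|
    eq_zero_of_polar hQ fun y => by
      obtain ⟨w, hw, z, hz, rfl⟩ := hsplit y
      rw [polar_add_right, polar_comm Q (x : V) w, horth w hw x.1 x.2, zero_add]
      exact hx ⟨z, hz⟩
  -- the nilpotent part on `R`
  set NR := N.restrict (hinvR N hcNZ) with hNR
  have hNR3 : NR ^ 3 = 0 := by
    have h3p : 3 ≤ p := by have := hpp.two_le; omega
    have h := Module.End.ker_pow_eq_ker_pow_finrank_of_le (f := NR) (m := p) (by rw [hdR]; exact h3p)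
    rw [hdR] at h
    have hp0 : NR ^ p = 0 := LinearMap.ext fun x => Subtype.ext (by rw [hNR, restrict_pow, hNp]; rfl)
    rw [hp0, LinearMap.ker_zero] at h
    exact LinearMap.ker_eq_top.1 h.symm
  obtain ⟨x0, hx0⟩ : ∃ x : R, NR x ≠ 0 := by
    by_contra hc
    push Not at hc
    refine hu1 (toEnd_injective Q ?_)
    rw [map_one, ← sub_eq_zero, ← hN]
    refine LinearMap.ext fun x => ?_
    obtain ⟨w, hw, z, hz, rfl⟩ := hsplit x
    rw [map_add, hNW w hw, zero_add]
    exact congrArg Subtype.val (hc ⟨z, hz⟩)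
  obtain ⟨x1, hx1⟩ : ∃ x : R, NR (NR x) ≠ 0 := by
    by_contra hc
    push Not at hc
    set l := NR x0 with hl
    have hiso : ∀ x : R, Q ((x : V) + (NR x : V)) = Q (x : V) := fun x => by
      have h : (x : V) + (NR x : V) = toEnd Q u x := by
        show (x : V) + (toEnd Q u (x : V) - (x : V)) = _
        abel
      rw [h, toEnd_isometry]
    have hker : ∀ y : R, NR y = 0 → Q (l : V) + (polar Q (x0 : V) (l : V) + polar Q (y : V) (l : V)) = 0 := by
      intro y hy
      have h := hiso (x0 + y)
      rw [map_add NR, hy, add_zero, ← hl] at h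
      rw [QuadraticMap.map_add Q, Submodule.coe_add, polar_add_left] at h
      linear_combination h
    have h0 : Q (l : V) + polar Q (x0 : V) (l : V) = 0 := by
      have := hker 0 (map_zero _)
      rwa [Submodule.coe_zero, polar_zero_left, add_zero] at this
    have hperp : ∀ y : R, NR y = 0 → polar Q (y : V) (l : V) = 0 := fun y hy => by
      linear_combination hker y hy - h0
    have hQl : Q (l : V) = 0 := by
      have h := hperp l (hc x0)
      rw [polar_self] at h
      exact (mul_eq_zero.1 (by rwa [two_smul, ← two_mul] at h)).resolve_left h2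
    have hx0l : polar Q (x0 : V) (l : V) = 0 := by rwa [hQl, zero_add] at h0
    have hrange : LinearMap.range NR = Submodule.span F {l} := by
      refine (Submodule.eq_of_le_of_finrank_le ((Submodule.span_singleton_le_iff_mem _ _).2
        (LinearMap.mem_range_self NR x0)) ?_).symm
      rw [finrank_span_singleton hx0]
      have h1 := LinearMap.finrank_range_add_finrank_ker NR
      have h2' : LinearMap.range NR ≤ LinearMap.ker NR := by
        rintro _ ⟨x, rfl⟩; exact hc x
      have := Submodule.finrank_mono h2'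
      omega
    refine hx0 (Subtype.ext (eq_zero_of_polar hQ fun y => ?_))
    obtain ⟨w, hw, z, hz, rfl⟩ := hsplit y
    rw [polar_add_right, polar_comm Q (l : V) w, horth w hw l.1 l.2, zero_add, polar_comm]
    obtain ⟨c, hc'⟩ := Submodule.mem_span_singleton.1 (hrange ▸ LinearMap.mem_range_self NR ⟨z, hz⟩)
    have hy : NR (⟨z, hz⟩ - c • x0) = 0 := by rw [map_sub, map_smul, ← hl, hc', sub_self]
    have := hperp _ hy
    rw [Submodule.coe_sub, Submodule.coe_smul, sub_eq_add_neg, polar_add_left, polar_neg_left, polar_smul_left,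
      hx0l, smul_zero, neg_zero, add_zero] at this
    exact this
  have hli : LinearIndependent F ![x1, NR x1, NR (NR x1)] := by
    have h3 : ∀ x : R, NR (NR (NR x)) = 0 := fun x => by
      have := LinearMap.congr_fun hNR3 x
      rwa [pow_three, Module.End.mul_apply, Module.End.mul_apply] at this
    rw [Fintype.linearIndependent_iff]
    intro c hc
    simp only [Fin.sum_univ_three, Matrix.cons_val_zero, Matrix.cons_val_one, Matrix.cons_val] at hc
    have e0 : c 0 = 0 := by
      have := congrArg (fun x => NR (NR x)) hc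
      simp only [map_add, map_smul, h3, map_zero, smul_zero, add_zero] at this
      exact (smul_eq_zero.1 this).resolve_right hx1
    have e1 : c 1 = 0 := by
      have := congrArg (fun x => NR x) hc
      simp only [e0, map_add, map_smul, h3, map_zero, smul_zero, add_zero, zero_smul, zero_add] at this
      exact (smul_eq_zero.1 this).resolve_right hx1
    have e2 : c 2 = 0 := by
      simp only [e0, e1, zero_smul, zero_add] at hc
      exact (smul_eq_zero.1 hc).resolve_right hx1
    intro i
    fin_cases i <;> assumption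
  set bR := basisOfLinearIndependentOfCardEqFinrank hli (by rw [hdR, Fintype.card_fin]) with hbR
  set SR := S.restrict (hinvR S hcSZ) with hSR
  have hSNR : SR * NR = NR * SR := LinearMap.ext fun x => Subtype.ext (LinearMap.congr_fun hcSN x.1)
  set a := bR.repr (SR x1) 0
  set b := bR.repr (SR x1) 1
  set c := bR.repr (SR x1) 2
  set D : Module.End F R := a • 1 + b • NR + c • (NR * NR) with hD
  have hSRD : SR = D := by
    have hb : ∀ i, bR i = ![x1, NR x1, NR (NR x1)] i := fun i => by
      rw [hbR, coe_basisOfLinearIndependentOfCardEqFinrank]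
    have hx : SR x1 = D x1 := by
      conv_lhs => rw [← bR.sum_repr (SR x1)]
      simp [Fin.sum_univ_three, hb, hD, a, b, c]
    have hDN : D * NR = NR * D := by
      rw [hD]; simp only [add_mul, mul_add, smul_mul_assoc, mul_smul_comm, one_mul, mul_one, mul_assoc]
    refine bR.ext fun i => ?_
    rw [hb]
    fin_cases i
    · exact hx
    · show SR (NR x1) = D (NR x1)
      rw [← Module.End.mul_apply, hSNR, ← Module.End.mul_apply D, hDN, Module.End.mul_apply,
        Module.End.mul_apply, hx]
    · show SR (NR (NR x1)) = D (NR (NR x1))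
      rw [← Module.End.mul_apply, hSNR, ← Module.End.mul_apply D, hDN, Module.End.mul_apply,
        Module.End.mul_apply, ← Module.End.mul_apply SR, hSNR, ← Module.End.mul_apply D, hDN,
        Module.End.mul_apply, Module.End.mul_apply, hx]
  haveI : Nontrivial R := Module.nontrivial_of_finrank_pos (R := F) (by omega)
  haveI : CharP (Module.End F R) p :=
    charP_of_injective_algebraMap (algebraMap F (Module.End F R)).injective p
  have hSRp : SR ^ p = a ^ p • 1 := by
    have h3p : 3 ≤ p := by have := hpp.two_le; omega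
    have hNp' : NR ^ p = 0 := pow_eq_zero_of_le h3p hNR3
    have e : D - a • 1 = NR * (b • 1 + c • NR) := by
      rw [hD, mul_add, mul_smul_comm, mul_smul_comm, mul_one]; abel
    have hcm : Commute NR (b • 1 + c • NR) :=
      ((Commute.one_right NR).smul_right b).add_right ((Commute.refl NR).smul_right c)
    have h0 : (D - a • 1) ^ p = 0 := by rw [e, hcm.mul_pow, hNp', zero_mul]
    rw [sub_pow_char_of_commute p ((Commute.one_right D).smul_right a), sub_eq_zero, smul_pow, one_pow] at h0
    rw [hSRD, h0]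
  have hSRL : SR ^ L = 1 := LinearMap.ext fun x => Subtype.ext (by rw [hSR, restrict_pow, hSL]; rfl)
  obtain ⟨k, -, hk⟩ := Nat.exists_mul_mod_eq_one_of_coprime hcop (by omega : 1 < L)
  set α := (a ^ p) ^ k with hα
  have hSRα : SR = α • 1 := by
    calc SR = SR ^ (p * k % L) := by rw [hk, pow_one]
      _ = SR ^ (p * k) := (pow_eq_pow_mod (p * k) hSRL).symm
      _ = α • 1 := by rw [pow_mul, hSRp, smul_pow, one_pow]
  set SW := S.restrict (hinvW S hcSZ) with hSW
  have hdetS : LinearMap.det SW * LinearMap.det SR = 1 := by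
    have h1 : LinearMap.det S = 1 := by rw [hS, hs, map_pow, map_pow, hdet, one_pow]
    let e := Submodule.prodEquivOfIsCompl W R hcompl
    rw [← LinearMap.det_prodMap, ← LinearMap.det_conj (SW.prodMap SR) e, ← h1]
    congr 1
    refine LinearMap.ext fun x => ?_
    obtain ⟨⟨w, z⟩, rfl⟩ := e.surjective x
    simp only [LinearMap.comp_apply, LinearEquiv.coe_coe, LinearEquiv.symm_apply_apply, LinearMap.prodMap_apply]
    simp [e, SW, SR]
  have hdetW : LinearMap.det SW = 1 := by
    refine det_eq_one_of_commute hrp hrd T hTr hfree hmpos hdW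
      (LinearMap.ext fun y => Subtype.ext (LinearMap.congr_fun hcSZ y.1)) ?_ (M := q ^ (n - 1) - 1) hsq.symm
      (Nat.sub_one_dvd_pow_sub_one q (n - 1))
    exact LinearMap.ext fun x => Subtype.ext (by rw [hSW, restrict_pow, hSL]; rfl)
  have hα3 : α ^ 3 = 1 := by
    rwa [hdetW, one_mul, hSRα, LinearMap.det_smul, hdR, map_one, mul_one] at hdetS
  have hα1 : α = 1 := by
    obtain ⟨x, hx⟩ : ∃ x : R, Q (x : V) ≠ 0 := by
      by_contra hc
      push Not at hc
      have h0 : x0 = 0 := eq_zero_of_polar hQR fun y => by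
        simp only [polar, QuadraticMap.comp_apply, Submodule.coe_subtype, hc, sub_zero]
      exact hx0 (by rw [h0, map_zero])
    have h := toEnd_isometry s (x : V)
    rw [← hS, show S (x : V) = ((SR x : R) : V) from rfl, hSRα, LinearMap.smul_apply, Module.End.one_apply,
      Submodule.coe_smul, QuadraticMap.map_smul, smul_eq_mul] at h
    rcases mul_self_eq_one_iff.1 ((mul_eq_right₀ hx).1 h) with h' | h'
    · exact h'
    · rw [h'] at hα3
      exact absurd (by linear_combination -hα3 : (2 : F) = 0) h2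
  have hSR1 : ∀ x ∈ R, S x = x := fun x hx => by
    have := congrArg Subtype.val (LinearMap.congr_fun hSRα ⟨x, hx⟩)
    rw [hα1, one_smul] at this
    exact this
  have hfreeS : ∀ (j : ℕ) (x : V), x ∉ R → (S ^ j) x = x → L ∣ j := by
    intro j x hx hjx
    obtain ⟨w, hw, z, hz, rfl⟩ := hsplit x
    have hw0 : w ≠ 0 := fun h => hx (by rwa [h, zero_add])
    have hjR : ∀ y ∈ R, (S ^ j) y = y := by
      intro y hy
      clear hjx
      induction j with
      | zero => rfl
      | succ i ih => rw [pow_succ, Module.End.mul_apply, hSR1 y hy, ih]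
    rw [map_add, hjR z hz, add_left_inj] at hjx
    have hall := hkill (f := S ^ j - 1) (by
      rw [sub_mul, mul_sub, one_mul, mul_one, ((show Commute S Z from hcSZ).pow_left j).eq]) w hw hw0
      (by rw [LinearMap.sub_apply, hjx, Module.End.one_apply, sub_self])
    have h1 : S ^ j = 1 := LinearMap.ext fun x => by
      obtain ⟨w', hw', z', hz', rfl⟩ := hsplit x
      have := hall w' hw'
      rw [LinearMap.sub_apply, Module.End.one_apply, sub_eq_zero] at this
      rw [map_add, hjR z' hz', this]; rfl
    rw [hS, ← map_pow, ← map_one (toEnd Q)] at h1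
    rw [← hos]
    exact orderOf_dvd_of_pow_eq_one (toEnd_injective Q h1)
  -- the permutation of the vectors of norm one
  haveI : Fintype (NormOne Q) := Fintype.ofFinite _
  set σ := permOne Q s with hσ
  have happ : ∀ (j : ℕ) (x : NormOne Q), ((σ ^ j) x).1 = (S ^ j) x.1 := fun j x => by
    rw [hσ, hS, ← map_pow, ← map_pow]; rfl
  have hfixiff : ∀ x : NormOne Q, σ x = x ↔ x.1 ∈ R := fun x => by
    constructor
    · intro h
      by_contra hx
      have := Nat.le_of_dvd one_pos (hfreeS 1 x.1 hx (by
        rw [← happ 1 x, pow_one, h]))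
      omega
    · intro h
      refine Subtype.ext ?_
      have := happ 1 x
      rw [pow_one, pow_one] at this
      rw [this, hSR1 _ h]
  have hσL : σ ^ L = 1 := by rw [hσ, ← map_pow, ← hos, pow_orderOf_eq_one, map_one]
  have htype : ∀ k ∈ σ.cycleType, k = L := by
    intro k hk
    refine Nat.dvd_antisymm ((Equiv.Perm.dvd_of_mem_cycleType hk).trans (orderOf_dvd_of_pow_eq_one hσL)) ?_
    obtain ⟨c, τ, hcτ, hd, hc, hck⟩ := Equiv.Perm.mem_cycleType_iff.1 hk
    obtain ⟨x, hx⟩ := Finset.card_pos.1 (show 0 < c.support.card from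
      Nat.lt_of_lt_of_le two_pos hc.two_le_card_support)
    have hτx : τ x = x := ((hd x).resolve_left (Equiv.Perm.mem_support.1 hx))
    have hxk : (σ ^ k) x = x := by
      rw [hcτ, hd.commute.mul_pow, Equiv.Perm.mul_apply, Equiv.Perm.pow_apply_eq_self_of_apply_eq_self hτx,
        ← hck, ← hc.orderOf, pow_orderOf_eq_one, Equiv.Perm.one_apply]
    refine hfreeS k x.1 (fun hxR => ?_) (by rw [← happ, hxk])
    have := (hfixiff x).2 hxR
    rw [hcτ, Equiv.Perm.mul_apply, hτx] at this
    exact Equiv.Perm.mem_support.1 hx this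
  have hrep : σ.cycleType = Multiset.replicate σ.cycleType.card L := Multiset.eq_replicate_card.2 htype
  have hfixcard : Fintype.card (Function.fixedPoints σ) = vcard (Q.comp R.subtype) (1 : F) := by
    rw [← Nat.card_eq_fintype_card]
    exact Nat.card_congr ⟨fun x => ⟨⟨x.1.1, (hfixiff x.1).1 x.2⟩, x.1.2⟩,
      fun x => ⟨⟨x.1.1, x.2⟩, (hfixiff _).2 x.1.2⟩, fun x => rfl, fun x => rfl⟩
  set k := σ.cycleType.card with hk'
  have hsum : k * L + Fintype.card (Function.fixedPoints σ) = q ^ (2 * n) + q ^ n := by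
    have hs' : σ.cycleType.sum = k * L := by
      rw [hrep, Multiset.sum_replicate, smul_eq_mul]
    have hle := σ.sum_cycleType_le
    rw [hs'] at hle
    rw [σ.card_fixedPoints, hs', Nat.add_sub_cancel' hle, ← Nat.card_eq_fintype_card]
    exact hcard
  have hsign : Equiv.Perm.sign σ = 1 := by
    rw [← hσ] at *
    have h1 : spin Q s = 1 := by rw [hs, map_pow, hspin, one_pow]
    rw [← h1]
    unfold spin
    simp only [MonoidHom.comp_apply]
    convert rfl
  have hLeven : Even L := by
    rw [hL]; exact (hqodd.pow).add_one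
  have hsign' : Equiv.Perm.sign σ = (-1) ^ k := by
    rw [Equiv.Perm.sign_of_cycleType_eq_replicate (show 0 < L by omega) hrep,
      if_neg (Nat.not_odd_iff_even.2 hLeven)]
    congr 1
    have hle : σ.cycleType.sum = k * L := by rw [hrep, Multiset.sum_replicate, smul_eq_mul]
    rw [σ.card_fixedPoints, Nat.sub_sub_self σ.sum_cycleType_le, hle, Nat.mul_div_cancel _ (by omega : 0 < L)]
  have hqn : (q : ℤ) ^ n = q * (q ^ (n - 1) : ℕ) := by
    push_cast
    rw [← pow_succ', Nat.sub_add_cancel (by omega)]
  rw [hfixcard] at hsum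
  rcases vcard_three hQR h2 hdR with hR1 | hR1
  · -- odd number of cycles
    have hke : (k : ℤ) = q * (q ^ n - q + 1) := by
      have h1 : ((k * L + (vcard (Q.comp R.subtype) (1 : F) + q) : ℕ) : ℤ) = (q ^ (2 * n) + q ^ n + q : ℕ) := by
        rw [← add_assoc, hsum]
      rw [← hq] at hR1
      rw [hR1] at h1
      push_cast at h1
      rw [mul_comm 2 n, pow_mul, hqn, hL] at h1
      push_cast at h1
      have hLne : ((q : ℤ) ^ (n - 1) + 1) ≠ 0 := by positivity
      refine mul_right_cancel₀ hLne ?_
      rw [hqn]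
      push_cast
      linear_combination h1
    have hkodd : Odd k := by
      rw [← Int.odd_coe_nat, hke]
      have hqz : Odd (q : ℤ) := (Int.odd_coe_nat q).2 hqodd
      exact hqz.mul ((hqz.pow.sub_odd hqz).add_one)
    rw [hkodd.neg_one_pow] at hsign'
    rw [hsign] at hsign'
    exact absurd hsign' (by decide)
  · rw [← hq] at hR1
    rw [hR1] at hsum
    have h1 : ((k * L + (q ^ 2 + q) : ℕ) : ℤ) = (q ^ (2 * n) + q ^ n : ℕ) := by rw [hsum]
    push_cast at h1
    rw [mul_comm 2 n, pow_mul, hqn, hL] at h1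
    push_cast at h1
    have h2q : (L : ℤ) ∣ 2 * q := by
      refine ⟨(q : ℤ) ^ 2 * (q ^ (n - 1) - 1) + q - k, ?_⟩
      rw [hL]
      push_cast
      linear_combination h1
    have := Nat.le_of_dvd (by omega) (Int.natCast_dvd_natCast.1 (by exact_mod_cast h2q : (L : ℤ) ∣ ((2 * q : ℕ) : ℤ)))
    omega

end Cfsg.Agent.SpecBC
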