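import Cfsg.Agent.Classical.SympGroup

/-!
In odd characteristic `PSp_{2n}(q)` has an element of order `p (q^(n-1) + 1)`.
-/

set_option autoImplicit false

namespace Cfsg.Agent.SpecBC

open Module Cfsg.Agent.Classical

variable {F : Type*} [Field F] [Fintype F]

/-- An isometry of an alternating space gives an element of `PSp` of the expected order. -/
theorem exists_psp_of_isometry {n N : ℕ} (hn : 1 ≤ n) {V : Type*} [AddCommGroup V] [Module F V]
    [FiniteDimensional F V] (hV : finrank F V = 2 * n) {B : LinearMap.BilinForm F V} (hA : B.IsAlt)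
    (hB : ∀ v, (∀ w, B v w = 0) → v = 0) (f : V ≃ₗ[F] V) (hf : ∀ x y, B (f x) (f y) = B x y)
    (h1 : ∃ c : F, ∀ x, (f ^ N) x = c • x) (h2 : ∀ (j : ℕ) (c : F), (∀ x, (f ^ j) x = c • x) → N ∣ j) :
    ∃ a : Cfsg.PSp n F, orderOf a = N := by
  classical
  obtain ⟨m, k, b, hef, hee, hff, hrad⟩ := Alt.exists_basis_symp (B := B) hA
  have hk : k = 0 := by
    rcases Nat.eq_zero_or_pos k with h | h
    · exact h
    · exact absurd (hB _ fun w => hrad ⟨0, h⟩ w) (b.ne_zero _)
  subst hk
  have hcard := Module.finrank_eq_card_basis b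
  simp at hcard
  obtain rfl : m = n := by omega
  let b' : Basis (Fin m ⊕ Fin m) F V := (b.reindex (Equiv.sumEmpty _ _)).reindex (Equiv.sumComm _ _)
  have hb' : ∀ i, b' i = b (Sum.inl i.swap) := fun i => by
    simp [b', Basis.reindex_apply]
  let e := b'.equivFun
  have hneg : ∀ x y, B x y = -B y x := fun x y => (LinearMap.IsAlt.neg hA y x).symm
  have he : ∀ x y, sympB m F (e x) (e y) = B x y := by
    intro x y
    have h : (sympB m F).compl₁₂ (e : V →ₗ[F] _) (e : V →ₗ[F] _) = B := by
      refine LinearMap.BilinForm.ext_basis b' fun i j => ?_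
      rw [LinearMap.compl₁₂_apply, LinearEquiv.coe_coe, hb', hb']
      show sympB m F (b'.equivFun (b (Sum.inl i.swap))) (b'.equivFun (b (Sum.inl j.swap))) = _
      rw [← hb', ← hb']
      simp only [Basis.equivFun_apply, Basis.repr_self, Finsupp.single_eq_pi_single]
      rw [sympB_eq_sum, hb', hb']
      rcases i with i | i <;> rcases j with j | j
      · simp [hff]
      · rcases eq_or_ne i j with rfl | hij
        · simp [hneg (b (Sum.inl (Sum.inr i))), hef, Pi.single_apply]
        · simp [hneg (b (Sum.inl (Sum.inr i))), hef, Pi.single_apply, hij, hij.symm]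
      · rcases eq_or_ne i j with rfl | hij
        · simp [hef, Pi.single_apply]
        · simp [hef, Pi.single_apply, hij, hij.symm]
      · simp [hee]
    exact LinearMap.congr_fun (LinearMap.congr_fun h x) y
  let g : Alt.isoGroup (sympB m F) := ⟨e.symm.trans (f.trans e), fun x y => by
    simp only [LinearEquiv.trans_apply]
    rw [he, hf, ← he, LinearEquiv.apply_symm_apply, LinearEquiv.apply_symm_apply]⟩
  have hgpow : ∀ (j : ℕ) (x : V), (g ^ j).1 (e x) = e ((f ^ j) x) := by
    intro j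
    induction j with
    | zero => intro x; rfl
    | succ j ih =>
      intro x
      rw [pow_succ, pow_succ, Subgroup.coe_mul, LinearEquiv.mul_apply, LinearEquiv.mul_apply, ← ih]
      show _ = (g ^ j).1 (e (f x))
      congr 1
      show e (f (e.symm (e x))) = _
      rw [LinearEquiv.symm_apply_apply]
  have hcen : ∀ j : ℕ, g ^ j ∈ Subgroup.center (Alt.isoGroup (sympB m F)) ↔ ∃ c : F, ∀ x, (f ^ j) x = c • x := by
    intro j
    constructor
    · intro h
      have := nontrivial_symp (F := F) hn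
      obtain ⟨c, hc⟩ := Alt.scalar_of_center sympB_isAlt sympB_nondeg h
      exact ⟨c, fun x => e.injective (by rw [← hgpow, hc, map_smul])⟩
    · rintro ⟨c, hc⟩
      refine Subgroup.mem_center_iff.2 fun h => Subtype.ext (LinearEquiv.ext fun y => ?_)
      obtain ⟨x, rfl⟩ := e.surjective y
      obtain ⟨z, hz⟩ := e.surjective (h.1 (e x))
      rw [Subgroup.coe_mul, Subgroup.coe_mul, LinearEquiv.mul_apply, LinearEquiv.mul_apply, hgpow, hc, map_smul,
        map_smul, ← hz, hgpow, hc, map_smul]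
  set A := (spEquiv m F).symm g
  have hA' : ∀ j : ℕ, (QuotientGroup.mk' (Subgroup.center (Matrix.symplecticGroup (Fin m) F)) A) ^ j = 1 ↔
      ∃ c : F, ∀ x, (f ^ j) x = c • x := by
    intro j
    rw [← map_pow, QuotientGroup.mk'_apply, QuotientGroup.eq_one_iff, ← hcen j,
      show A ^ j = (spEquiv m F).symm (g ^ j) from (map_pow _ g j).symm]
    constructor
    · intro h
      refine Subgroup.mem_center_iff.2 fun x => ?_
      have := congrArg (spEquiv m F) (Subgroup.mem_center_iff.1 h ((spEquiv m F).symm x))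
      simpa using this
    · intro h
      refine Subgroup.mem_center_iff.2 fun x => (spEquiv m F).injective ?_
      simpa using Subgroup.mem_center_iff.1 h (spEquiv m F x)
  refine ⟨QuotientGroup.mk' _ A, Nat.dvd_antisymm (orderOf_dvd_iff_pow_eq_one.2 ((hA' N).2 h1)) ?_⟩
  obtain ⟨c, hc⟩ := (hA' _).1 (pow_orderOf_eq_one (QuotientGroup.mk' _ A))
  exact h2 _ c hc

/-- The element of order `p (q^(n-1) + 1)`. -/
theorem exists_psp_element (p : ℕ) [Fact p.Prime] [CharP F p] (hp : p ≠ 2) {n : ℕ} (hn : 3 ≤ n) :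
    ∃ a : Cfsg.PSp n F, orderOf a = p * (Fintype.card F ^ (n - 1) + 1) := by
  classical
  set q := Fintype.card F with hq
  have hq1 : 1 < q := Fintype.one_lt_card
  have hpp : p.Prime := Fact.out
  obtain ⟨ee, -, hcard'⟩ := FiniteField.card F p
  have h2 : (2 : F) ≠ 0 := by
    intro h
    have : ((2 : ℕ) : F) = 0 := by exact_mod_cast h
    exact hp ((Nat.prime_dvd_prime_iff_eq hpp Nat.prime_two).1 ((CharP.cast_eq_zero_iff F p 2).1 this))
  set m := 2 * (n - 1) with hm
  haveI : NeZero m := ⟨by omega⟩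
  let E := FiniteField.Extension F p m
  haveI := Fintype.ofFinite E
  set Q := q ^ (n - 1) with hQ
  have hE : Fintype.card E = Q ^ 2 := by
    rw [← Nat.card_eq_fintype_card, FiniteField.natCard_extension, Nat.card_eq_fintype_card, hQ, hm, ← pow_mul,
      mul_comm]
  set φ : E ≃ₐ[F] E := FiniteField.frobeniusAlgEquivOfAlgebraic F E ^ (n - 1)
  have hφ : ∀ x : E, φ x = x ^ Q := fun x => by
    rw [AlgEquiv.coe_pow, FiniteField.coe_frobeniusAlgEquivOfAlgebraic_iterate]
  obtain ⟨γ, hγ⟩ := IsCyclic.exists_generator (α := Eˣ)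
  have hoγ : orderOf γ = Q ^ 2 - 1 := by
    rw [orderOf_eq_card_of_forall_mem_zpowers hγ, Nat.card_eq_fintype_card, Fintype.card_units, hE]
  have hQodd : Odd Q := by
    rw [hQ, hq, hcard']
    exact ((hpp.odd_of_ne_two hp).pow).pow
  have hQ2 : 2 < Q := by
    have : 2 ^ 2 ≤ Q := le_trans (Nat.pow_le_pow_right two_pos (show 2 ≤ n - 1 by omega))
      (Nat.pow_le_pow_left (by omega) _)
    omega
  have hsq : Q ^ 2 - 1 = (Q + 1) * (Q - 1) := by simpa using Nat.sq_sub_sq Q 1
  -- a skew element and an element of norm one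
  set c : E := ((γ ^ ((Q + 1) / 2) : Eˣ) : E) with hc
  have hc0 : c ≠ 0 := (γ ^ ((Q + 1) / 2)).ne_zero
  have hcQ : φ c = -c := by
    have h2d : (Q + 1) / 2 * 2 = Q + 1 := Nat.div_mul_cancel (hQodd.add_one.two_dvd)
    set d := (γ ^ ((Q + 1) / 2)) ^ (Q - 1) with hd
    have hd1 : d ^ 2 = 1 := by
      rw [hd, ← pow_mul, ← pow_mul, show (Q + 1) / 2 * ((Q - 1) * 2) = Q ^ 2 - 1 by
        rw [hsq, ← mul_assoc, mul_right_comm, h2d], ← hoγ, pow_orderOf_eq_one]
    have hd2 : d ≠ 1 := fun h => by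
      rw [hd, ← pow_mul, ← orderOf_dvd_iff_pow_eq_one, hoγ, hsq] at h
      have h3 := Nat.le_of_dvd (Nat.mul_pos (by omega) (by omega)) h
      have : (Q + 1) / 2 * (Q - 1) < (Q + 1) * (Q - 1) := Nat.mul_lt_mul_of_pos_right (by omega) (by omega)
      omega
    have hdv : (d : E) = -1 := by
      have h3 : (d : E) * d = 1 := by rw [← pow_two, ← Units.val_pow_eq_pow_val, hd1, Units.val_one]
      exact (mul_self_eq_one_iff.1 h3).resolve_left fun h => hd2 (Units.ext (h.trans Units.val_one.symm))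
    rw [hφ, show Q = Q - 1 + 1 by omega, pow_succ, hc, ← Units.val_pow_eq_pow_val, ← hd, hdv, neg_one_mul]
  set α : Eˣ := γ ^ (Q - 1) with hα
  have hoα : orderOf α = Q + 1 := by
    rw [hα, orderOf_pow' γ (by omega), hoγ, hsq, Nat.gcd_mul_left_left, Nat.mul_div_cancel _ (by omega)]
  have hαn : φ (α : E) * α = 1 := by
    rw [hφ, ← pow_succ, ← Units.val_pow_eq_pow_val, ← hoα, pow_orderOf_eq_one, Units.val_one]
  -- the form
  let B : LinearMap.BilinForm F (E × (F × F)) := LinearMap.mk₂ F
    (fun x y => Algebra.trace F E (c * φ x.1 * y.1) + (x.2.1 * y.2.2 - x.2.2 * y.2.1))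
    (fun x x' y => by simp [mul_add, add_mul]; ring)
    (fun a x y => by simp [smul_eq_mul, mul_sub]; ring)
    (fun x y y' => by simp [mul_add]; ring)
    (fun a x y => by simp [smul_eq_mul, mul_sub]; ring)
  have hBA : B.IsAlt := fun x => by
    show Algebra.trace F E (c * φ x.1 * x.1) + (x.2.1 * x.2.2 - x.2.2 * x.2.1) = 0
    rw [mul_comm x.2.2, sub_self, add_zero]
    set z := c * φ x.1 * x.1 with hz
    have hφφ : φ (φ x.1) = x.1 := by
      rw [hφ, hφ, ← pow_mul, ← pow_two, ← hE, FiniteField.pow_card]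
    have h : φ z = -z := by rw [hz, map_mul, map_mul, hcQ, hφφ]; ring
    have h' := Algebra.trace_eq_of_algEquiv φ z
    rw [h, map_neg] at h'
    have h3 : (2 : F) * Algebra.trace F E z = 0 := by linear_combination -h'
    exact (mul_eq_zero.1 h3).resolve_left h2
  have hBnd : ∀ v, (∀ w, B v w = 0) → v = 0 := by
    intro v hv
    have e1 : c * φ v.1 = 0 := (traceForm_nondegenerate F E).1 _ fun y => by
      rw [Algebra.traceForm_apply]
      simpa [B] using hv (y, 0)
    have h0 : v.1 = 0 := by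
      rcases mul_eq_zero.1 e1 with h | h
      · exact absurd h hc0
      · exact (map_eq_zero φ).1 h
    have e2 : v.2.1 = 0 := by simpa [B, h0] using hv (0, (0, 1))
    have e3 : v.2.2 = 0 := by simpa [B, h0] using hv (0, (1, 0))
    exact Prod.ext h0 (Prod.ext e2 e3)
  let f : (E × (F × F)) ≃ₗ[F] (E × (F × F)) :=
    { toFun := fun x => ((α : E) * x.1, (x.2.1 + x.2.2, x.2.2))
      map_add' := fun x y => Prod.ext (mul_add _ _ _) (Prod.ext (add_add_add_comm _ _ _ _) rfl)
      map_smul' := fun a x => Prod.ext (mul_smul_comm _ _ _) (Prod.ext (smul_add _ _ _).symm rfl)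
      invFun := fun x => (((α⁻¹ : Eˣ) : E) * x.1, (x.2.1 - x.2.2, x.2.2))
      left_inv := fun x => Prod.ext (Units.inv_mul_cancel_left α x.1) (Prod.ext (add_sub_cancel_right _ _) rfl)
      right_inv := fun x => Prod.ext (Units.mul_inv_cancel_left α x.1) (Prod.ext (sub_add_cancel _ _) rfl) }
  have hfpow : ∀ (j : ℕ) (x : E × (F × F)), (f ^ j) x = ((α : E) ^ j * x.1, (x.2.1 + j * x.2.2, x.2.2)) := by
    intro j
    induction j with
    | zero => intro x; simp
    | succ j ih =>
      intro x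
      rw [pow_succ, LinearEquiv.mul_apply, ih]
      show ((α : E) ^ j * ((α : E) * x.1), (x.2.1 + x.2.2 + (j : F) * x.2.2, x.2.2)) = _
      rw [← mul_assoc, ← pow_succ, Nat.cast_succ]
      congr 2
      ring
  refine exists_psp_of_isometry (N := p * (Q + 1)) (by omega) ?_ hBA hBnd f (fun x y => ?_) ⟨1, fun x => ?_⟩ ?_
  · rw [Module.finrank_prod, Module.finrank_prod, Module.finrank_self, FiniteField.finrank_extension]
    omega
  · show Algebra.trace F E (c * φ ((α : E) * x.1) * ((α : E) * y.1)) +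
      ((x.2.1 + x.2.2) * y.2.2 - x.2.2 * (y.2.1 + y.2.2)) = _
    rw [map_mul φ, show c * (φ (α : E) * φ x.1) * ((α : E) * y.1) = c * φ x.1 * y.1 by
      linear_combination c * φ x.1 * y.1 * hαn]
    show _ = Algebra.trace F E (c * φ x.1 * y.1) + (x.2.1 * y.2.2 - x.2.2 * y.2.1)
    ring
  · rw [one_smul, hfpow, ← Units.val_pow_eq_pow_val]
    rw [show α ^ (p * (Q + 1)) = 1 by rw [mul_comm, pow_mul, ← hoα, pow_orderOf_eq_one, one_pow],
      Units.val_one, one_mul, Nat.cast_mul, CharP.cast_eq_zero, zero_mul, zero_mul, add_zero]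
  · intro j z hz
    have h01 := hz (0, (0, 1))
    rw [hfpow] at h01
    simp [Prod.ext_iff] at h01
    have hz1 : z = 1 := h01.2.symm
    have h10 := hz (1, (0, 0))
    rw [hfpow, hz1] at h10
    simp [Prod.ext_iff] at h10
    have hpj : p ∣ j := (CharP.cast_eq_zero_iff F p j).1 h01.1
    have hLj : Q + 1 ∣ j := by
      rw [← hoα, orderOf_dvd_iff_pow_eq_one]
      exact Units.ext (by rw [Units.val_pow_eq_pow_val, Units.val_one, h10])
    refine Nat.Coprime.mul_dvd_of_dvd_of_dvd ((Nat.Prime.coprime_iff_not_dvd hpp).2 fun h => ?_) hpj hLj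
    have hpQ : p ∣ Q := by
      rw [hQ, hq, hcard']
      exact dvd_pow (dvd_pow_self p ee.ne_zero) (by omega)
    exact hpp.one_lt.ne' (Nat.dvd_one.1 ((Nat.dvd_add_right hpQ).1 h))

end Cfsg.Agent.SpecBC
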