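import Cfsg.Agent.Classical.QuadDecomp

/-!
Numbers of vectors of norm one in odd dimension.
-/

set_option autoImplicit false

namespace Cfsg.Agent.SpecBC

open Module QuadraticMap Cfsg.Agent.Classical.Quad

variable {F : Type*} [Field F] [Finite F]

/-- The number of vectors of a given value. -/
noncomputable def vcard {V : Type*} [AddCommGroup V] [Module F V] (Q : QuadraticForm F V) (a : F) : ℕ :=
  Nat.card {x : V // Q x = a}

omit [Finite F] in
theorem vcard_congr {V W : Type*} [AddCommGroup V] [Module F V] [AddCommGroup W] [Module F W]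
    {Q₁ : QuadraticForm F V} {Q₂ : QuadraticForm F W} (e : V ≃ₗ[F] W) (he : ∀ x, Q₂ (e x) = Q₁ x) (a : F) :
    vcard Q₁ a = vcard Q₂ a :=
  Nat.card_congr (e.toEquiv.subtypeEquiv fun x => by simp [he])

theorem vcard_hypOne {U : Type*} [AddCommGroup U] [Module F U] [FiniteDimensional F U] (R : QuadraticForm F U)
    (a : F) : vcard (hypOne R) a + Nat.card U = Nat.card F * vcard R a + Nat.card F * Nat.card U := by
  classical
  have : Finite U := Module.finite_of_finite F
  have := Fintype.ofFinite U
  have := Fintype.ofFinite F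
  have hfib : ∀ c : F, Nat.card {p : F × F // p.1 * p.2 = c} + 1
      = Nat.card F + if c = 0 then Nat.card F else 0 := fun c => by
    let e : {p : F × F // p.1 * p.2 = c} ≃ Σ a : F, {b : F // a * b = c} :=
      ⟨fun p => ⟨p.1.1, p.1.2, p.2⟩, fun s => ⟨(s.1, s.2.1), s.2.2⟩, fun _ => rfl, fun _ => rfl⟩
    rw [Nat.card_congr e, Nat.card_sigma, ← Finset.sum_erase_add _ _ (Finset.mem_univ (0 : F))]
    have h1 : ∀ a ∈ Finset.univ.erase (0 : F), Nat.card {b : F // a * b = c} = 1 := fun a ha => by
      have ha0 := (Finset.mem_erase.1 ha).1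
      rw [Nat.card_eq_one_iff_unique]
      exact ⟨⟨fun b b' => Subtype.ext (mul_left_cancel₀ ha0 (b.2.trans b'.2.symm))⟩,
        ⟨⟨c / a, mul_div_cancel₀ c ha0⟩⟩⟩
    have h0 : Nat.card {b : F // (0 : F) * b = c} = if c = 0 then Nat.card F else 0 := by
      split_ifs with hc
      · exact Nat.card_congr (Equiv.subtypeUnivEquiv fun b => by simp [hc])
      · have : IsEmpty {b : F // (0 : F) * b = c} := ⟨fun b => hc (by simpa using b.2.symm)⟩
        exact Nat.card_of_isEmpty
    rw [Finset.sum_congr rfl h1, h0, Finset.sum_const, smul_eq_mul, mul_one,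
      Finset.card_erase_of_mem (Finset.mem_univ _), Finset.card_univ, Nat.card_eq_fintype_card]
    have : 0 < Fintype.card F := Fintype.card_pos
    omega
  let e : {x : (F × F) × U // hypOne R x = a} ≃ Σ u : U, {p : F × F // p.1 * p.2 = a - R u} :=
    ⟨fun x => ⟨x.1.2, x.1.1, eq_sub_of_add_eq x.2⟩,
      fun s => ⟨(s.2.1, s.1), by rw [hypOne_apply, s.2.2, sub_add_cancel]⟩, fun _ => rfl, fun _ => rfl⟩
  have hz : ∑ u : U, (if a - R u = 0 then Nat.card F else 0) = Nat.card F * vcard R a := by
    simp_rw [sub_eq_zero, eq_comm (a := a)]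
    rw [← Finset.sum_filter, Finset.sum_const, smul_eq_mul, mul_comm, vcard,
      Nat.card_eq_fintype_card (α := {x : U // R x = a}), Fintype.card_subtype]
  have hU : Nat.card U = ∑ _u : U, 1 := by simp
  rw [vcard, Nat.card_congr e, Nat.card_sigma]
  conv_lhs => rw [hU, ← Finset.sum_add_distrib]
  simp_rw [hfib]
  rw [Finset.sum_add_distrib, hz, Finset.sum_const, Finset.card_univ, smul_eq_mul,
    Nat.card_eq_fintype_card (α := U)]
  ring

theorem vcard_odd_one (h2 : (2 : F) ≠ 0) (m : ℕ) :
    vcard (hyp (sqForm F) m) (1 : F) = Nat.card F ^ (2 * m) + Nat.card F ^ m := by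
  classical
  induction m with
  | zero =>
    have h : vcard (hyp (sqForm F) 0) (1 : F) = Nat.card ({1, -1} : Finset F) := Nat.card_congr
      ⟨fun x => ⟨x.1.2, by
          have := x.2
          simp [hyp_apply, sqForm] at this
          simpa using mul_self_eq_one_iff.1 this⟩,
        fun u => ⟨((0, 0), u.1), by
          have := u.2
          simp only [Finset.mem_insert, Finset.mem_singleton] at this
          rcases this with h | h <;> simp [hyp_apply, sqForm, h]⟩,
        fun x => Subtype.ext (Prod.ext (Subsingleton.elim _ _) rfl), fun u => rfl⟩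
    rw [h, Nat.card_eq_fintype_card, Fintype.card_coe, Finset.card_pair]
    · simp
    · intro h'
      exact h2 (by linear_combination h')
  | succ m ih =>
    have h := vcard_hypOne (hyp (sqForm F) m) (1 : F)
    rw [← vcard_congr (hypSucc m) (hypSucc_map (sqForm F) m), card_space, ih] at h
    refine Nat.add_right_cancel (h.trans ?_)
    ring

/-- In dimension three there are `q² ± q` vectors of norm one. -/
theorem vcard_three {V : Type*} [AddCommGroup V] [Module F V] [FiniteDimensional F V] {Q : QuadraticForm F V}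
    (hQ : (polarBilin Q).Nondegenerate) (h2 : (2 : F) ≠ 0) (h3 : finrank F V = 3) :
    vcard Q (1 : F) + Nat.card F = Nat.card F ^ 2 ∨ vcard Q (1 : F) = Nat.card F ^ 2 + Nat.card F := by
  classical
  obtain ⟨e, he0, he⟩ := exists_singular Q (by omega)
  obtain ⟨f, hf, hef⟩ := exists_hyp_pair hQ he0 he
  have hdim : finrank F V = 2 + finrank F (perpPair Q e f) := by
    rw [(splitPair he hf hef).finrank_eq, Module.finrank_prod, Module.finrank_prod, Module.finrank_self]
  have h1 : finrank F (perpPair Q e f) = 1 := by omega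
  obtain ⟨u, hu, hspan⟩ := finrank_eq_one_iff'.1 h1
  set R := restrictPair Q e f
  have hR : R u ≠ 0 := by
    intro h0
    refine hu (eq_zero_of_polar (nondeg_restrictPair hQ he hf hef) fun y => ?_)
    obtain ⟨c, rfl⟩ := hspan y
    rw [polar_smul_right, polar_self', h0, mul_zero, smul_zero]
  have hq : Nat.card (perpPair Q e f) = Nat.card F := by
    rw [Module.natCard_eq_pow_finrank (K := F), h1, pow_one]
  have h := vcard_hypOne R (1 : F)
  rw [← vcard_congr (splitPair he hf hef) (splitPair_map he hf hef), hq] at h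
  by_cases hs : ∃ x, R x = 1
  · obtain ⟨x, hx⟩ := hs
    have hx0 : x ≠ 0 := fun h0 => by simp [h0] at hx
    have hval : vcard R (1 : F) = Nat.card ({x, -x} : Finset (perpPair Q e f)) := by
      refine Nat.card_congr (Equiv.subtypeEquivRight fun y => ?_)
      simp only [Finset.mem_insert, Finset.mem_singleton]
      constructor
      · intro hy
        obtain ⟨c, rfl⟩ := hspan y
        obtain ⟨d, rfl⟩ := hspan x
        rw [QuadraticMap.map_smul, smul_eq_mul] at hy hx
        rcases mul_self_eq_mul_self_iff.1 (mul_right_cancel₀ hR (hy.trans hx.symm)) with rfl | rfl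
        · exact Or.inl rfl
        · exact Or.inr (neg_smul _ _)
      · rintro (rfl | rfl)
        · exact hx
        · rwa [QuadraticMap.map_neg]
    rw [Nat.card_eq_fintype_card, Fintype.card_coe, Finset.card_pair] at hval
    · right
      rw [hval] at h
      refine Nat.add_right_cancel (h.trans ?_)
      ring
    · intro hxx
      have h' : (2 : F) • x = 0 := by rw [two_smul]; exact eq_neg_iff_add_eq_zero.1 hxx
      exact hx0 ((smul_eq_zero.1 h').resolve_left h2)
  · left
    push Not at hs
    have hval : vcard R (1 : F) = 0 := by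
      have : IsEmpty {x // R x = 1} := ⟨fun x => hs x.1 x.2⟩
      exact Nat.card_of_isEmpty
    rw [hval] at h
    rw [h]; ring

end Cfsg.Agent.SpecBC
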